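import Mathlib
import Cfsg.Agent.Lib.TcPres
import Cfsg.Prelude.Def_SporCoxeter

set_option autoImplicit false
set_option maxRecDepth 100000
set_option linter.all false

namespace Cfsg.Agent.TcChain36.U62.Cyc

open Cfsg.Spor Cfsg.Agent.Lib.TcFacts Cfsg.Agent.Lib.TcBits Cfsg.Agent.Lib.TcPres

/-- The generators. -/
inductive Gen
  | d
  | e
  | f
  | h
  | i
  | w
  deriving DecidableEq

/-- The letter of a signed generator. -/
def enc : Gen → Bool → ℕ
  | .d, _ => 0
  | .e, _ => 1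
  | .f, _ => 2
  | .h, _ => 3
  | .i, _ => 4
  | .w, _ => 5

/-- The letters. -/
noncomputable def gL : List (FreeGroup Gen) :=
  [FreeGroup.of .d, FreeGroup.of .e, FreeGroup.of .f, FreeGroup.of .h, FreeGroup.of .i, FreeGroup.of .w]

/-- The nodes. -/
def nodesL : List Gen := [.d, .e, .f, .h, .i, .w]

/-- The generators. -/
def gensL : List Gen := [.d, .e, .f, .h, .i, .w]

/-- The graph. -/
def edges : List (Gen × ℕ × Gen) := [(.d, 3, .e), (.d, 3, .h), (.e, 3, .f), (.f, 3, .w), (.h, 3, .i), (.i, 3, .w)]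

/-- The further relators. -/
noncomputable def extra : List (FreeGroup Gen) := [
  (FreeGroup.of Gen.w) * (FreeGroup.of Gen.f) * (FreeGroup.of Gen.e) * (FreeGroup.of Gen.d) * (FreeGroup.of Gen.h) * (FreeGroup.of Gen.i) * (FreeGroup.of Gen.h) * (FreeGroup.of Gen.d) * (FreeGroup.of Gen.e) * (FreeGroup.of Gen.f) * (FreeGroup.of Gen.w) * (FreeGroup.of Gen.f) * (FreeGroup.of Gen.e) * (FreeGroup.of Gen.d) * (FreeGroup.of Gen.h) * (FreeGroup.of Gen.i) * (FreeGroup.of Gen.h) * (FreeGroup.of Gen.d) * (FreeGroup.of Gen.e) * (FreeGroup.of Gen.f) * (FreeGroup.of Gen.w) * (FreeGroup.of Gen.f) * (FreeGroup.of Gen.e) * (FreeGroup.of Gen.d) * (FreeGroup.of Gen.h) * (FreeGroup.of Gen.i) * (FreeGroup.of Gen.h) * (FreeGroup.of Gen.d) * (FreeGroup.of Gen.e) * (FreeGroup.of Gen.f),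
  (FreeGroup.of Gen.d) * (FreeGroup.of Gen.e) * (FreeGroup.of Gen.f) * (FreeGroup.of Gen.w) * (FreeGroup.of Gen.i) * (FreeGroup.of Gen.h) * (FreeGroup.of Gen.d) * (FreeGroup.of Gen.e) * (FreeGroup.of Gen.f) * (FreeGroup.of Gen.w) * (FreeGroup.of Gen.i) * (FreeGroup.of Gen.h) * (FreeGroup.of Gen.d) * (FreeGroup.of Gen.e) * (FreeGroup.of Gen.f) * (FreeGroup.of Gen.w) * (FreeGroup.of Gen.i) * (FreeGroup.of Gen.h) * (FreeGroup.of Gen.d) * (FreeGroup.of Gen.e) * (FreeGroup.of Gen.f) * (FreeGroup.of Gen.w) * (FreeGroup.of Gen.i) * (FreeGroup.of Gen.h) * (FreeGroup.of Gen.d) * (FreeGroup.of Gen.e) * (FreeGroup.of Gen.f) * (FreeGroup.of Gen.w) * (FreeGroup.of Gen.i) * (FreeGroup.of Gen.h)]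

/-- All relators, as a list. -/
noncomputable def relL : List (FreeGroup Gen) := relAll edges nodesL extra

/-- The relators as a set. -/
abbrev RR : Set (FreeGroup Gen) := {r | r ∈ relL}

theorem hrel : ∀ r ∈ relL, PresentedGroup.mk RR r = 1 := fun r hr =>
  (QuotientGroup.eq_one_iff r).mpr (Subgroup.subset_normalClosure hr)

theorem hL : ∀ x b, enc x b < 6 := by
  intro x b; cases x <;> cases b <;> decide

theorem hlen : 6 = gL.length := rfl

theorem inv_sq {x : Gen} (h : (FreeGroup.of x * FreeGroup.of x) ^ 1 ∈ relL) :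
    (PresentedGroup.of x : PresentedGroup RR)⁻¹ = PresentedGroup.of x := by
  have h1 := hrel _ h
  rw [pow_one, map_mul] at h1
  exact inv_eq_of_mul_eq_one_left h1

theorem hℓ (macros : List (FreeGroup Gen)) : ∀ x b, letter RR gL macros (enc x b) =
    cond b (PresentedGroup.of x) (PresentedGroup.of x)⁻¹ := by
  intro x b
  cases x <;> cases b <;>
    first
      | rfl
      | exact map_inv _ _
      | exact (inv_sq (by decide +kernel)).symm

end Cfsg.Agent.TcChain36.U62.Cyc
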